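import Cfsg.Agent.TwoF.DC.Asm.Main
import Cfsg.Agent.TwoF.DC.St.Main
import Cfsg.Agent.TwoF.DC.D1.Main
import Cfsg.Agent.TwoF.DC.D2.Orb
import Cfsg.Agent.TwoF.DC.Mod.Can

/-!
# TwoF, defining characteristic: closing file (helper85)

`boxRel_pow`, `boxStd_pow` : the general theory from `BoxPow`.  `TBox P` : what the owner of a type delivers.
`boxDC_of` : `BoxDC` from the types.
-/

set_option autoImplicit false

namespace Cfsg.Agent.TwoF.DC

theorem boxRel_pow (b : BoxPow) : BoxRel := boxRel_of boxHW boxDeg1 boxDeg2 b boxSt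

theorem boxStd_pow (b : BoxPow) : BoxStd := boxStd_of_rel (boxRel_pow b)

/-- the rows of a family in defining characteristic -/
def TBox (P : ℕ → ∀ (S : Type) [Group S], Prop) : Prop :=
  ∀ (p : ℕ) [Fact p.Prime] (S : Type) [Group S] [Finite S] [IsSimpleGroup S], P p S → Row p S

/-- `S` is isomorphic to `X F` for a finite field `F` of characteristic `p` -/
def IsoChar (D : ∀ (F : Type) [Field F] [Fintype F] (S : Type) [Group S], Prop) (p : ℕ) (S : Type) [Group S] : Prop :=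
  ∃ (F : Type) (_ : Field F) (_ : Fintype F) (_ : CharP F p), D F S

/-- the types -/
structure Types : Prop where
  psl : TBox fun p S _ => IsPSLChar p S
  psu : TBox fun p S _ => IsPSUChar p S
  psp : TBox fun p S _ => IsPSpChar p S
  sz : TBox fun p S _ => p = 2 ∧ Lie.IsoSuzuki S
  oodd : TBox fun p S _ => IsPOmegaOddChar p S
  oplus : TBox fun p S _ => IsPOmegaPlusChar p S
  ominus : TBox fun p S _ => IsPOmegaMinusChar p S
  td4 : TBox (IsoChar fun K _ _ S _ => ∃ q, IsPrimePow q ∧ Fintype.card K = q ^ 3 ∧ Nonempty (S ≃* Lie.twistedD4 K q))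
  e6 : TBox (IsoChar fun F _ _ S _ => Nonempty (S ≃* Lie.chevE6.group F))
  e7 : TBox (IsoChar fun F _ _ S _ => Nonempty (S ≃* Lie.chevE7.group F))
  e8 : TBox (IsoChar fun F _ _ S _ => Nonempty (S ≃* Lie.chevE8.group F))
  te6 : TBox (IsoChar fun K _ _ S _ => ∃ q, IsPrimePow q ∧ Fintype.card K = q ^ 2 ∧ Nonempty (S ≃* Lie.twistedE6 K q))
  g2 : TBox (IsoChar fun F _ _ S _ => 3 ≤ Fintype.card F ∧ Nonempty (S ≃* Lie.chevG2.group F))
  f4 : TBox (IsoChar fun F _ _ S _ => Nonempty (S ≃* Lie.chevF4.group F))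
  tf4 : TBox fun p S _ => p = 2 ∧ Lie.Iso2F4 S
  ree : TBox fun p S _ => p = 3 ∧ Lie.IsoRee S

theorem boxDC_of (t : Types) : BoxDC := by
  intro p _ S _ _ _ h
  rcases h with h | h | h | h | h | h | ⟨F, _, _, _, h⟩ | ⟨F, _, _, _, q, hq, h⟩ | h | h | h
  · exact t.psl p S h
  · exact t.psp p S h
  · exact t.psu p S h
  · exact t.oodd p S h
  · exact t.oplus p S h
  · exact t.ominus p S h
  · rcases h with h | h | h | h | h
    · exact t.g2 p S ⟨F, ‹_›, ‹_›, ‹_›, h⟩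
    · exact t.f4 p S ⟨F, ‹_›, ‹_›, ‹_›, h⟩
    · exact t.e6 p S ⟨F, ‹_›, ‹_›, ‹_›, h⟩
    · exact t.e7 p S ⟨F, ‹_›, ‹_›, ‹_›, h⟩
    · exact t.e8 p S ⟨F, ‹_›, ‹_›, ‹_›, h⟩
  · rcases h with h | h
    · exact t.te6 p S ⟨F, ‹_›, ‹_›, ‹_›, q, hq, h⟩
    · exact t.td4 p S ⟨F, ‹_›, ‹_›, ‹_›, q, hq, h⟩
  · exact t.sz p S h
  · exact t.tf4 p S h
  · exact t.ree p S h

end Cfsg.Agent.TwoF.DC
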